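import Groth.Agent.Lib.PicLift3.Artin
import Groth.Agent.Lib.FormalGamma21.Basic

/-!
# Invertible modules on adic systems
-/

set_option autoImplicit false
set_option linter.style.haveILetI false
set_option backward.isDefEq.respectTransparency.types false

universe u

open CategoryTheory CategoryTheory.Limits AlgebraicGeometry IsLocalRing

namespace Groth.Agent.PicLift3

variable (A : Type u) [CommRing A] [IsLocalRing A]

/-- The transition maps of the truncations. -/
abbrev fac {m n : ℕ} (h : m ≤ n) : A ⧸ maximalIdeal A ^ n →+* A ⧸ maximalIdeal A ^ m :=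
  Ideal.Quotient.factor (Ideal.pow_le_pow_right h)

theorem fac_surjective {m n : ℕ} (h : m ≤ n) : Function.Surjective (fac A h) :=
  Ideal.Quotient.factor_surjective _

variable {A} [IsNoetherianRing A] {Xs : ℕ → Scheme.{u}}
  {fs : ∀ n : ℕ, Xs n ⟶ Spec (CommRingCat.of (A ⧸ maximalIdeal A ^ (n + 1)))} {ts : ∀ n : ℕ, Xs n ⟶ Xs (n + 1)}
  (hcart : ∀ n : ℕ, IsPullback (ts n) (fs n) (fs (n + 1))
    (Spec.map (CommRingCat.ofHom (Ideal.Quotient.factor (Ideal.pow_le_pow_right (Nat.le_succ (n + 1)))))))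

include hcart in
omit [IsNoetherianRing A] in
theorem exists_isPullback_zero (n : ℕ) : ∃ T : Xs 0 ⟶ Xs n, IsPullback T (fs 0) (fs n)
    (Spec.map (CommRingCat.ofHom (fac A (by omega : 0 + 1 ≤ n + 1)))) := by
  induction n with
  | zero =>
    refine ⟨𝟙 _, ?_⟩
    have e : Spec.map (CommRingCat.ofHom (fac A (le_refl (0 + 1)))) = 𝟙 _ := by
      rw [show CommRingCat.ofHom (fac A (le_refl (0 + 1))) = 𝟙 _ from
        CommRingCat.hom_ext (Ideal.Quotient.ringHom_ext (RingHom.ext fun _ => rfl))]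
      exact Spec.map_id _
    rw [e]
    exact IsPullback.of_horiz_isIso ⟨by simp⟩
  | succ n ih =>
    obtain ⟨T, hT⟩ := ih
    refine ⟨T ≫ ts n, ?_⟩
    have e : Spec.map (CommRingCat.ofHom (fac A (by omega : 0 + 1 ≤ n + 1))) ≫
        Spec.map (CommRingCat.ofHom (fac A (Nat.le_succ (n + 1)))) =
        Spec.map (CommRingCat.ofHom (fac A (by omega : 0 + 1 ≤ n + 1 + 1))) := by
      rw [← Spec.map_comp]
      exact congrArg Spec.map (CommRingCat.hom_ext (Ideal.Quotient.ringHom_ext (RingHom.ext fun _ => rfl)))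
    rw [← e]
    exact hT.paste_horiz (hcart n)

omit [IsNoetherianRing A] in
theorem ker_fac_le {m n : ℕ} (h : m + 1 ≤ n + 1) :
    RingHom.ker (fac A h) ≤ (maximalIdeal A).map (Ideal.Quotient.mk (maximalIdeal A ^ (n + 1))) := by
  intro z hz
  obtain ⟨a, rfl⟩ := Ideal.Quotient.mk_surjective z
  exact Ideal.mem_map_of_mem _ (Ideal.pow_le_self (Nat.succ_ne_zero m) (Ideal.Quotient.eq_zero_iff_mem.1 hz))

theorem ker_fac_zero (n : ℕ) [IsLocalRing (A ⧸ maximalIdeal A ^ (n + 1))] :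
    RingHom.ker (fac A (by omega : 0 + 1 ≤ n + 1)) = maximalIdeal (A ⧸ maximalIdeal A ^ (n + 1)) := by
  haveI : (maximalIdeal A ^ (0 + 1)).IsMaximal := by rw [zero_add, pow_one]; infer_instance
  letI : Field (A ⧸ maximalIdeal A ^ (0 + 1)) := Ideal.Quotient.field _
  exact IsLocalRing.eq_maximalIdeal (RingHom.ker_isMaximal_of_surjective _ (fac_surjective A _))

omit [IsNoetherianRing A] in
theorem isLocalRing_quot (n : ℕ) : IsLocalRing (A ⧸ maximalIdeal A ^ (n + 1)) := by
  haveI : Nontrivial (A ⧸ maximalIdeal A ^ (n + 1)) := Ideal.Quotient.nontrivial_iff.2 fun h =>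
    (maximalIdeal.isMaximal A).ne_top (top_le_iff.1 (h ▸ Ideal.pow_le_self (Nat.succ_ne_zero n)))
  exact IsLocalRing.of_surjective' _ Ideal.Quotient.mk_surjective

variable (hflat : ∀ n, Flat (fs n))

include hcart hflat

/-- The lifting step. -/
theorem exists_lift_step (h2 : Subsingleton (Coh.HH (Xs 0) (Coh.structureModule (Xs 0)) 2)) (n : ℕ)
    (L₀ : (Xs n).Modules) (hL₀ : PicF.IsInvertible L₀) :
    ∃ L : (Xs (n + 1)).Modules, PicF.IsInvertible L ∧ Nonempty ((Scheme.Modules.pullback (ts n)).obj L ≅ L₀) := by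
  haveI := isLocalRing_quot (A := A) (n + 1)
  haveI := FormalGamma21.isArtinianRing_quot (R := A) (n + 1)
  haveI := hflat (n + 1)
  obtain ⟨T, hT⟩ := exists_isPullback_zero hcart (n + 1)
  haveI := subsingleton_closedFibre (fac_surjective A _) (ker_fac_zero (n + 1)) hT h2
  refine exists_lift (fac_surjective A (Nat.le_succ (n + 1))) ?_ (hcart n) L₀ hL₀
  rw [← ker_fac_zero (n + 1)]
  exact fun z hz => by
    rw [RingHom.mem_ker, show fac A (by omega : 0 + 1 ≤ n + 1 + 1) z =
      fac A (by omega : 0 + 1 ≤ n + 1) (fac A (Nat.le_succ (n + 1)) z) from by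
        obtain ⟨a, rfl⟩ := Ideal.Quotient.mk_surjective z; rfl, RingHom.mem_ker.1 hz, map_zero]

/-- The uniqueness step. -/
theorem nonempty_iso_step (h1 : Subsingleton (Coh.HH (Xs 0) (Coh.structureModule (Xs 0)) 1)) (n : ℕ)
    {L L' : (Xs (n + 1)).Modules} (hL : PicF.IsInvertible L) (hL' : PicF.IsInvertible L')
    (e : (Scheme.Modules.pullback (ts n)).obj L ≅ (Scheme.Modules.pullback (ts n)).obj L') : Nonempty (L ≅ L') := by
  haveI := isLocalRing_quot (A := A) (n + 1)
  haveI := FormalGamma21.isArtinianRing_quot (R := A) (n + 1)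
  haveI := hflat (n + 1)
  obtain ⟨T, hT⟩ := exists_isPullback_zero hcart (n + 1)
  haveI := subsingleton_closedFibre (fac_surjective A _) (ker_fac_zero (n + 1)) hT h1
  refine nonempty_iso (fac_surjective A (Nat.le_succ (n + 1))) ?_ (hcart n) hL hL' e
  rw [← ker_fac_zero (n + 1)]
  exact fun z hz => by
    rw [RingHom.mem_ker, show fac A (by omega : 0 + 1 ≤ n + 1 + 1) z =
      fac A (by omega : 0 + 1 ≤ n + 1) (fac A (Nat.le_succ (n + 1)) z) from by
        obtain ⟨a, rfl⟩ := Ideal.Quotient.mk_surjective z; rfl, RingHom.mem_ker.1 hz, map_zero]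

/-- A compatible system lifting an invertible module. -/
theorem exists_system (h2 : Subsingleton (Coh.HH (Xs 0) (Coh.structureModule (Xs 0)) 2))
    (L₀ : (Xs 0).Modules) (hL₀ : PicF.IsInvertible L₀) :
    ∃ L : ∀ n : ℕ, (Xs n).Modules, (∀ n, PicF.IsInvertible (L n)) ∧ Nonempty (L 0 ≅ L₀) ∧
      ∀ n, Nonempty ((Scheme.Modules.pullback (ts n)).obj (L (n + 1)) ≅ L n) := by
  let S : ∀ n : ℕ, { L : (Xs n).Modules // PicF.IsInvertible L } := fun n =>
    Nat.rec (motive := fun n => { L : (Xs n).Modules // PicF.IsInvertible L }) ⟨L₀, hL₀⟩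
      (fun n P => ⟨_, (exists_lift_step hcart hflat h2 n P.1 P.2).choose_spec.1⟩) n
  exact ⟨fun n => (S n).1, fun n => (S n).2, ⟨Iso.refl _⟩,
    fun n => (exists_lift_step hcart hflat h2 n (S n).1 (S n).2).choose_spec.2⟩

/-- Systems are determined by their bottom member. -/
theorem nonempty_iso_system (h1 : Subsingleton (Coh.HH (Xs 0) (Coh.structureModule (Xs 0)) 1))
    {L L' : ∀ n : ℕ, (Xs n).Modules} (hL : ∀ n, PicF.IsInvertible (L n)) (hL' : ∀ n, PicF.IsInvertible (L' n))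
    (hLt : ∀ n, Nonempty ((Scheme.Modules.pullback (ts n)).obj (L (n + 1)) ≅ L n))
    (hL't : ∀ n, Nonempty ((Scheme.Modules.pullback (ts n)).obj (L' (n + 1)) ≅ L' n))
    (e₀ : L 0 ≅ L' 0) (n : ℕ) : Nonempty (L n ≅ L' n) := by
  induction n with
  | zero => exact ⟨e₀⟩
  | succ n ih =>
    obtain ⟨a⟩ := hLt n
    obtain ⟨b⟩ := hL't n
    obtain ⟨c⟩ := ih
    exact nonempty_iso_step hcart hflat h1 n (hL _) (hL' _) (a ≪≫ c ≪≫ b.symm)

end Groth.Agent.PicLift3
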