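import Groth.Agent.Lib.FGA3.UnitsInduct
import Groth.Agent.Lib.PicH1_21.Thickening
import Groth.Agent.Lib.TensorMod.PicLaw
import Groth.Agent.Lib.CIPic27.Lift

/-!
# Invertible modules along closed subschemes of a flat scheme over an Artinian local ring
-/

set_option autoImplicit false
set_option linter.style.haveILetI false
set_option backward.isDefEq.respectTransparency false

universe u

open CategoryTheory CategoryTheory.Limits AlgebraicGeometry TopologicalSpace Opposite IsLocalRing

namespace Groth.Agent.PicLift3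

open FGA3

variable {A B K : Type u} [CommRing A] [CommRing B] [CommRing K] {X Y X₀ : Scheme.{u}}
  {f : X ⟶ Spec (CommRingCat.of A)}

/-- Cartesian squares over surjections are base changes to quotients. -/
theorem exists_iso_of_surjective {π : A →+* B} (hπ : Function.Surjective π) {i : Y ⟶ X}
    {y : Y ⟶ Spec (CommRingCat.of B)} (h : IsPullback i y f (Spec.map (CommRingCat.ofHom π))) :
    ∃ t : Y ≅ pullback f (spQ (RingHom.ker π)), t.hom ≫ iq f (RingHom.ker π) = i := by
  let e : CommRingCat.of (A ⧸ RingHom.ker π) ≅ CommRingCat.of B :=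
    (RingHom.quotientKerEquivOfSurjective hπ).toCommRingCatIso
  have he : CommRingCat.ofHom (Ideal.Quotient.mk (RingHom.ker π)) ≫ e.hom = CommRingCat.ofHom π :=
    CommRingCat.hom_ext (RingHom.ext fun _ => rfl)
  have h' : IsPullback i (y ≫ Spec.map e.hom) f (spQ (RingHom.ker π)) := by
    refine h.of_iso (Iso.refl _) (Iso.refl _) (Scheme.Spec.mapIso e.op) (Iso.refl _) (by simp) ?_ (by simp) ?_
    · simp only [Iso.refl_hom, Category.id_comp]
      rfl
    · simp only [Iso.refl_hom, Category.comp_id]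
      show Spec.map _ = Spec.map e.hom ≫ Spec.map _
      rw [← Spec.map_comp, he]
  exact ⟨h'.isoPullback, h'.isoPullback_hom_fst⟩

variable [IsArtinianRing A] [IsLocalRing A] [Flat f]

/-- The closed fibre through any surjection with kernel the maximal ideal. -/
theorem subsingleton_closedFibre {r : A →+* K} (hr : Function.Surjective r) (hk : RingHom.ker r = maximalIdeal A)
    {i₀ : X₀ ⟶ X} {x₀ : X₀ ⟶ Spec (CommRingCat.of K)} (h : IsPullback i₀ x₀ f (Spec.map (CommRingCat.ofHom r)))
    {q : ℕ} (hv : Subsingleton (Coh.HH X₀ (Coh.structureModule X₀) q)) :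
    Subsingleton (Coh.HH (pullback f (spQ (maximalIdeal A))) (Coh.structureModule _) q) := by
  obtain ⟨t, -⟩ := exists_iso_of_surjective hr h
  rw [← hk]
  exact CIPic27.subsingleton_HH_structure_of_iso t.inv q hv

attribute [local instance] M2.law in
/-- Lifting invertible modules when `H²` of the closed fibre vanishes. -/
theorem exists_lift {π : A →+* B} (hπ : Function.Surjective π) (hm : RingHom.ker π ≤ maximalIdeal A) {i : Y ⟶ X}
    {y : Y ⟶ Spec (CommRingCat.of B)} (h : IsPullback i y f (Spec.map (CommRingCat.ofHom π)))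
    [Subsingleton (Coh.HH (pullback f (spQ (maximalIdeal A))) (Coh.structureModule _) 2)]
    (L₀ : Y.Modules) (hL₀ : PicF.IsInvertible L₀) :
    ∃ L : X.Modules, PicF.IsInvertible L ∧ Nonempty ((Scheme.Modules.pullback i).obj L ≅ L₀) := by
  obtain ⟨t, ht⟩ := exists_iso_of_surjective hπ h
  let J := RingHom.ker π
  have hG : PicH1_21.Good (iq f J) := PicH1_21.good_of_isEmbedding (iq f J).isClosedEmbedding
  have hi : PicGrp.PullMul (iq f J) := M2.pullMul _
  have hL₁ := PicLoc.isInvertible_pullback t.inv hL₀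
  obtain ⟨z, hz⟩ := surjective_mp_cJ (q := 1) f J hm
    (PicH1_21.picEquiv hG (Additive.ofMul (PicGrp.cls _ hL₁)))
  obtain ⟨c, rfl⟩ := (PicH1_21.picEquivId X).surjective z
  have hc : PicGrp.pullHom (iq f J) hi (Additive.toMul c) = PicGrp.cls _ hL₁ := by
    apply Additive.ofMul.injective
    apply (PicH1_21.picEquiv hG).injective
    rw [PicH1_21.picEquiv_pullHom hG hi]
    exact hz
  obtain ⟨L, hL, hcL⟩ := PicGrp.exists_eq_cls (Additive.toMul c)
  rw [hcL, PicGrp.pullHom_cls] at hc
  obtain ⟨e⟩ := (PicGrp.cls_eq_cls_iff _ _).1 hc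
  exact ⟨L, hL, ⟨(Scheme.Modules.pullbackCongr ht.symm).app L ≪≫
    ((Scheme.Modules.pullbackComp t.hom (iq f J)).app L).symm ≪≫
    (Scheme.Modules.pullback t.hom).mapIso e ≪≫ (Scheme.Modules.pullbackComp t.hom t.inv).app L₀ ≪≫
    (Scheme.Modules.pullbackCongr t.hom_inv_id).app L₀ ≪≫ (Scheme.Modules.pullbackId Y).app L₀⟩⟩

attribute [local instance] M2.law in
/-- Uniqueness of lifts when `H¹` of the closed fibre vanishes. -/
theorem nonempty_iso {π : A →+* B} (hπ : Function.Surjective π) (hm : RingHom.ker π ≤ maximalIdeal A) {i : Y ⟶ X}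
    {y : Y ⟶ Spec (CommRingCat.of B)} (h : IsPullback i y f (Spec.map (CommRingCat.ofHom π)))
    [Subsingleton (Coh.HH (pullback f (spQ (maximalIdeal A))) (Coh.structureModule _) 1)]
    {L L' : X.Modules} (hL : PicF.IsInvertible L) (hL' : PicF.IsInvertible L')
    (e : (Scheme.Modules.pullback i).obj L ≅ (Scheme.Modules.pullback i).obj L') : Nonempty (L ≅ L') := by
  obtain ⟨t, ht⟩ := exists_iso_of_surjective hπ h
  let J := RingHom.ker π
  have hG : PicH1_21.Good (iq f J) := PicH1_21.good_of_isEmbedding (iq f J).isClosedEmbedding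
  have hi : PicGrp.PullMul (iq f J) := M2.pullMul _
  have ht' : t.inv ≫ i = iq f J := by rw [← ht, Iso.inv_hom_id_assoc]
  have hc : PicGrp.pullHom (iq f J) hi (PicGrp.cls L hL) = PicGrp.pullHom (iq f J) hi (PicGrp.cls L' hL') := by
    rw [PicGrp.pullHom_cls, PicGrp.pullHom_cls, PicGrp.cls_eq_cls_iff]
    exact ⟨(Scheme.Modules.pullbackCongr ht'.symm).app L ≪≫ ((Scheme.Modules.pullbackComp t.inv i).app L).symm ≪≫
      (Scheme.Modules.pullback t.inv).mapIso e ≪≫ (Scheme.Modules.pullbackComp t.inv i).app L' ≪≫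
      (Scheme.Modules.pullbackCongr ht').app L'⟩
  refine (PicGrp.cls_eq_cls_iff hL hL').1 (Additive.ofMul.injective ((PicH1_21.picEquivId X).injective ?_))
  refine injective_mp_cJ (q := 1) f J hm ?_
  show CohFound.mp (UnitsSh.comap (iq f J)) 1 ⊤ _ = CohFound.mp (UnitsSh.comap (iq f J)) 1 ⊤ _
  rw [← PicH1_21.picEquiv_pullHom hG hi, ← PicH1_21.picEquiv_pullHom hG hi, hc]

end Groth.Agent.PicLift3
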